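import Groth.Prelude.Def_Omega4
import Groth.Agent.QCoh.Sections
import Groth.Agent.DefGlueLib.Glue

/-! Derivations of the structure sheaf from compatible derivations of the affine pieces. -/

set_option autoImplicit false
set_option backward.isDefEq.respectTransparency false
set_option backward.isDefEq.respectTransparency.types false

universe u

open CategoryTheory AlgebraicGeometry TopologicalSpace Opposite

noncomputable section

namespace Groth.Agent.H9DefAut

open Scheme (AffineZariskiSite)

variable {k : Type u} [Field k] {X : Scheme.{u}} (x : X ⟶ Spec (CommRingCat.of k))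

/-- Compatible derivations of the affine pieces, trivial on scalars. -/
structure DerFam where
  /-- the maps -/
  D : ∀ U : AffineZariskiSite X, Γ(X, U.toOpens) →+ Γ(X, U.toOpens)
  map : ∀ {U V : AffineZariskiSite X} (h : V ≤ U) (s : Γ(X, U.toOpens)),
    D V (X.presheaf.map (homOfLE (AffineZariskiSite.toOpens_mono h)).op s) =
      X.presheaf.map (homOfLE (AffineZariskiSite.toOpens_mono h)).op (D U s)
  mul : ∀ U (s t : Γ(X, U.toOpens)), D U (s * t) = s * D U t + t * D U s
  str : ∀ U c, D U (DefGlueLib.str x U c) = 0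

variable {x}

theorem res_res {U V W : X.Opens} (h : V ≤ U) (h' : W ≤ V) (s : Γ(X, U)) :
    X.presheaf.map (homOfLE h').op (X.presheaf.map (homOfLE h).op s) =
      X.presheaf.map (homOfLE (h'.trans h)).op s := by
  rw [← ConcreteCategory.comp_apply, ← Functor.map_comp]; rfl

theorem exists_affine_le {W : X.Opens} {p : X} (hp : p ∈ W) :
    ∃ U : AffineZariskiSite X, p ∈ U.toOpens ∧ U.toOpens ≤ W := by
  obtain ⟨U, hU, hpU, hle⟩ := Opens.isBasis_iff_nbhd.mp X.isBasis_affineOpens hp
  exact ⟨⟨U, hU⟩, hpU, hle⟩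

theorem eq_of_affine {W : X.Opens} {s t : Γ(X, W)}
    (h : ∀ (U : AffineZariskiSite X) (hle : U.toOpens ≤ W),
      X.presheaf.map (homOfLE hle).op s = X.presheaf.map (homOfLE hle).op t) : s = t := by
  choose U hpU hle using fun p : W => exists_affine_le p.2
  exact TopCat.Sheaf.eq_of_locally_eq' X.sheaf (fun p => (U p).toOpens) W (fun p => homOfLE (hle p))
    (fun q hq => Opens.mem_iSup.2 ⟨⟨q, hq⟩, hpU ⟨q, hq⟩⟩) s t fun p => h (U p) (hle p)

variable (E : DerFam x)

namespace DerFam

/-- The glued value. -/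
def Rel (W : X.Opens) (s t : Γ(X, W)) : Prop :=
  ∀ (U : AffineZariskiSite X) (h : U.toOpens ≤ W),
    E.D U (X.presheaf.map (homOfLE h).op s) = X.presheaf.map (homOfLE h).op t

theorem rel_unique {W : X.Opens} {s t t' : Γ(X, W)} (h : E.Rel W s t) (h' : E.Rel W s t') : t = t' :=
  eq_of_affine fun U hle => (h U hle).symm.trans (h' U hle)

theorem exists_rel (W : X.Opens) (s : Γ(X, W)) : ∃ t, E.Rel W s t := by
  let ι := {U : AffineZariskiSite X // U.toOpens ≤ W}
  obtain ⟨t, ht, -⟩ := TopCat.Sheaf.existsUnique_gluing' X.sheaf (fun i : ι => i.1.toOpens) W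
    (fun i => homOfLE i.2) (fun p hp => by
      obtain ⟨U, hpU, hle⟩ := exists_affine_le hp
      exact Opens.mem_iSup.2 ⟨⟨U, hle⟩, hpU⟩)
    (fun i => E.D i.1 (X.presheaf.map (homOfLE i.2).op s)) (fun i j => by
      choose f g hfg hf using fun p : (i.1.toOpens ⊓ j.1.toOpens : X.Opens) =>
        exists_basicOpen_le_affine_inter i.1.2 j.1.2 p.1 p.2
      have hle' : ∀ p, i.1.basicOpen (f p) ≤ j.1 := fun p => ⟨g p, (hfg p).symm⟩
      refine TopCat.Sheaf.eq_of_locally_eq' X.sheaf (fun p => (i.1.basicOpen (f p)).toOpens) _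
        (fun p => homOfLE (le_inf (AffineZariskiSite.toOpens_mono (i.1.basicOpen_le (f p)))
          (AffineZariskiSite.toOpens_mono (hle' p))))
        (fun q hq => Opens.mem_iSup.2 ⟨⟨q, hq⟩, hf ⟨q, hq⟩⟩) _ _ fun p => ?_
      have h1 := (E.map (i.1.basicOpen_le (f p)) (X.presheaf.map (homOfLE i.2).op s)).symm
      have h2 := (E.map (hle' p) (X.presheaf.map (homOfLE j.2).op s)).symm
      rw [res_res] at h1 h2
      refine (res_res inf_le_left _ _).trans (h1.trans (h2.symm.trans (res_res inf_le_right _ _).symm)))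
  exact ⟨t, fun U h => (ht ⟨U, h⟩).symm⟩

/-- The glued map. -/
def app (W : X.Opens) : Γ(X, W) →+ Γ(X, W) :=
  AddMonoidHom.mk' (fun s => (E.exists_rel W s).choose) fun s s' =>
    E.rel_unique (E.exists_rel W _).choose_spec fun U h => by
      rw [map_add, map_add, map_add, (E.exists_rel W s).choose_spec U h, (E.exists_rel W s').choose_spec U h]

theorem rel_app (W : X.Opens) (s : Γ(X, W)) : E.Rel W s (E.app W s) := (E.exists_rel W s).choose_spec

theorem app_eq (U : AffineZariskiSite X) (s : Γ(X, U.toOpens)) : E.app U.toOpens s = E.D U s := by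
  have h := E.rel_app U.toOpens s U le_rfl
  simpa using h.symm

theorem app_map {W W' : X.Opens} (h : W' ≤ W) (s : Γ(X, W)) :
    E.app W' (X.presheaf.map (homOfLE h).op s) = X.presheaf.map (homOfLE h).op (E.app W s) :=
  E.rel_unique (E.rel_app W' _) fun U hle => by
    rw [res_res, res_res]
    exact E.rel_app W s U (hle.trans h)

theorem app_mul (W : X.Opens) (s t : Γ(X, W)) : E.app W (s * t) = s * E.app W t + t * E.app W s :=
  E.rel_unique (E.rel_app W _) fun U h => by
    rw [map_mul, E.mul, E.rel_app W t U h, E.rel_app W s U h, map_add, map_mul, map_mul]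

theorem app_str (V : (Spec (CommRingCat.of k)).Opens) (c : Γ(Spec (CommRingCat.of k), V)) :
    E.app (x ⁻¹ᵁ V) (x.app V c) = 0 := by
  have hc : V = ⊥ ∨ V = ⊤ := by
    refine or_iff_not_imp_left.2 fun hV => ?_
    obtain ⟨p, hp⟩ := (Opens.ne_bot_iff_nonempty _).1 hV
    exact top_unique fun q _ => (Subsingleton.elim (α := PrimeSpectrum k) p q) ▸ hp
  obtain rfl | rfl := hc
  · rw [show c = 0 from Subsingleton.elim _ _, map_zero, map_zero]
  refine E.rel_unique (E.rel_app _ _) fun U h => ?_
  obtain ⟨t, rfl⟩ : ∃ t : k, (Scheme.ΓSpecIso (CommRingCat.of k)).inv t = c :=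
    ⟨(Scheme.ΓSpecIso (CommRingCat.of k)).hom c, by
      rw [← ConcreteCategory.comp_apply, Iso.hom_inv_id]; rfl⟩
  rw [map_zero]
  refine Eq.trans (congrArg _ ?_) (E.str U t)
  exact ConcreteCategory.congr_hom (show x.app ⊤ ≫ X.presheaf.map (homOfLE h).op = x.appLE ⊤ U.toOpens le_top
    from rfl) _

variable (x) in
/-- The derivation of the structure sheaf. -/
def toDer : OmegaSh.Der x (Coh.structureModule X) where
  d {U} := (OmegaSh.strSect X U.unop).comp (E.app U.unop)
  d_mul {U} a b := E.app_mul U.unop a b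
  d_map {_ _} i s := E.app_map i.unop.le s
  d_app {V} c := E.app_str V.unop c

theorem toDer_app (U : AffineZariskiSite X) (s : Γ(X, U.toOpens)) :
    OmegaSh.fnSect X U.toOpens ((E.toDer x).app U.toOpens s) = E.D U s :=
  E.app_eq U s

end DerFam

end Groth.Agent.H9DefAut
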