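import Groth.Agent.H9DefAut.Alg
import Groth.Agent.H9DefAut.Der
import Groth.Agent.DefGlueLib.Sections
import Groth.Agent.OmegaUniv.Universal

/-! Without vector fields, deformations have no automorphisms. -/

set_option autoImplicit false
set_option backward.isDefEq.respectTransparency false
set_option backward.isDefEq.respectTransparency.types false

universe u

open CategoryTheory CategoryTheory.Limits AlgebraicGeometry TopologicalSpace Opposite ArtFun

noncomputable section

namespace Groth.Agent.H9DefAut

open Scheme (AffineZariskiSite)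
open Groth.Agent.DefGlueLib

variable {k : Type u} [Field k] {X : Scheme.{u}} {x : X ⟶ Spec (CommRingCat.of k)}

theorem DerFam.eq_zero [QuasiSeparated x] [Subsingleton (Omega.sheaf x ⟶ Coh.structureModule X)]
    (E : DerFam x) (U : AffineZariskiSite X) (s : Γ(X, U.toOpens)) : E.D U s = 0 := by
  obtain ⟨α, hα, -⟩ := OmegaUniv.isUniversal_dOmega x _ (E.toDer x)
  obtain rfl : α = 0 := Subsingleton.elim _ _
  rw [← E.toDer_app, ← hα]
  rfl

variable {C : Art k k} (D : PDef x C) (Φ : PHom (𝟙 C) D D)

theorem app_sub_mem [QuasiSeparated x] [Subsingleton (Omega.sheaf x ⟶ Coh.structureModule X)] (n : ℕ) :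
    ∀ (U : AffineZariskiSite X) (r : D.R.obj (op U)),
      (Φ.app.app (op U)).hom r - r ∈ (IsLocalRing.maximalIdeal C ^ n).map (D.a (op U)) := by
  induction n with
  | zero => intro U r; rw [pow_zero, Ideal.one_eq_top, Ideal.map_top]; trivial
  | succ n ih =>
  intro U r
  refine mem_map_of_forall n (D.isDef (op U)) (ih U r) fun l hl L hL => ?_
  choose M hM using fun V : AffineZariskiSite X => exists_isLam n (D.isDef (op V)) (l := l) hl
  have hq : ∀ V (z : D.R.obj (op V)), (D.q.app (op V)).hom ((Φ.app.app (op V)).hom z) = (D.q.app (op V)).hom z :=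
    fun V z => congr($(Φ.q_app).app (op V) z)
  choose Dv hDv hmul hstr using fun V : AffineZariskiSite X =>
    exists_der n (D.isDef (op V)) (hM V) hl (Φ.app.app (op V)).hom (Φ.comm (op V)) (hq V) (ih V)
  let E : DerFam x :=
    { D := Dv
      map := fun {V W} h s => by
        obtain ⟨z, rfl⟩ := (D.isDef (op V)).surjective s
        let i : op V ⟶ op W := (homOfLE h).op
        refine (congrArg (Dv W) (D.q_map i z).symm).trans (((hDv W _).trans ?_).trans
          (congrArg (X.presheaf.map (homOfLE (AffineZariskiSite.toOpens_mono h)).op) (hDv V z)).symm)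
        rw [show (Φ.app.app (op W)).hom (D.R.map i z) = D.R.map i ((Φ.app.app (op V)).hom z) from
            ConcreteCategory.congr_hom (Φ.app.naturality i) z, ← map_sub]
        let ρ := (X.presheaf.map (homOfLE (AffineZariskiSite.toOpens_mono h)).op).hom
        refine IsLam.eqOn (L := (M W).comp (D.R.map i).hom.toAddMonoidHom) (L' := ρ.toAddMonoidHom.comp (M V))
          (l := l) (c := str x W) (q := ρ.comp (D.q.app (op V)).hom) (fun y hy t => ?_) (fun y hy t => ?_) (ih V z)
        · change M W (D.R.map i (D.a (op V) y * t)) = _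
          rw [map_mul, D.a_map, hM W y hy]
          exact congrArg (_ * ·) (D.q_map i t)
        · change ρ (M V (D.a (op V) y * t)) = _
          rw [hM V y hy, map_mul]
          exact congrArg (· * _) (RingHom.congr_fun (str_res x h) (l y))
      mul := hmul
      str := hstr }
  rw [IsLam.eqOn hL (hM U) (ih U r), ← hDv]
  exact E.eq_zero U _

theorem app_eq_id [QuasiSeparated x] [Subsingleton (Omega.sheaf x ⟶ Coh.structureModule X)]
    (U : AffineZariskiSite X) (r : D.R.obj (op U)) : (Φ.app.app (op U)).hom r = r := by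
  obtain ⟨n, hn⟩ := IsArtinianRing.isNilpotent_jacobson_bot (R := C)
  rw [IsLocalRing.jacobson_eq_maximalIdeal ⊥ bot_ne_top] at hn
  have h := app_sub_mem D Φ n U r
  rw [hn, Submodule.zero_eq_bot, Ideal.map_bot, Ideal.mem_bot] at h
  exact sub_eq_zero.1 h

/-- No vector fields: every automorphism of a deformation is trivial. -/
theorem iso_hom_eq_id [QuasiSeparated x] [Subsingleton (Omega.sheaf x ⟶ Coh.structureModule X)]
    (ξ : DefSch X x C) (e : ξ.Iso ξ) : e.iso.hom = 𝟙 ξ.total := by
  have h : (Ov.ofIso e).sec.glue.hom = 𝟙 _ := colimit.hom_ext fun U => by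
    rw [PHom.ι_glue, show (Ov.ofIso e).sec.app.app (op U) = 𝟙 _ from
      CommRingCat.hom_ext (RingHom.ext (app_eq_id (ofSch ξ) (Ov.ofIso e).sec U)), Spec.map_id]
    exact (Category.id_comp _).trans (Category.comp_id _).symm
  have h2 := counit_naturality (Ov.ofIso e)
  rw [h] at h2
  refine (cancel_epi (counit ξ).iso.hom).1 (h2.symm.trans ?_)
  exact (Category.id_comp _).trans (Category.comp_id _).symm

end Groth.Agent.H9DefAut
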