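import Groth.Agent.DefGlueLib.Alg
import Mathlib.LinearAlgebra.Dual.Lemmas
import Mathlib.Algebra.Module.Submodule.RestrictScalars

/-! The graded pieces of a deformation of an algebra. -/

set_option autoImplicit false
set_option backward.isDefEq.respectTransparency false
set_option backward.isDefEq.respectTransparency.types false

universe u

open CategoryTheory ArtFun ArtFun.Art IsLocalRing

namespace Groth.Agent.H9DefAut

open Groth.Agent.DefGlueLib

variable {k : Type u} [Field k] {C : Art k k} {R B₀ : Type u} [CommRing R] [CommRing B₀]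

theorem res_algebraMap (t : k) : C.res (algebraMap k C t) = t := C.res.commutes t

theorem lin_mul {n : ℕ} {l : C →ₗ[k] k} (hl : ∀ y ∈ maximalIdeal C ^ (n + 1), l y = 0) (b : C) {y : C}
    (hy : y ∈ maximalIdeal C ^ n) : l (b * y) = C.res b * l y := by
  have hm : b - algebraMap k C (C.res b) ∈ maximalIdeal C := by
    rw [mem_maximalIdeal_iff, map_sub, res_algebraMap, sub_self]
  have h0 := hl _ (pow_succ' (maximalIdeal C) n ▸ Ideal.mul_mem_mul hm hy)
  rw [sub_mul, map_sub, sub_eq_zero, ← Algebra.smul_def, map_smul] at h0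
  exact h0.trans (smul_eq_mul _ _)

/-- `L` is induced by the functional `l` on `𝔪ⁿ R / 𝔪ⁿ⁺¹ R`. -/
def IsLam (c : k →+* B₀) (a : C →+* R) (q : R →+* B₀) (n : ℕ) (l : C →ₗ[k] k) (L : R →+ B₀) : Prop :=
  ∀ y ∈ maximalIdeal C ^ n, ∀ r, L (a y * r) = c (l y) * q r

variable {c : k →+* B₀} {a : C →+* R} {q : R →+* B₀} {n : ℕ} {l : C →ₗ[k] k}

theorem comb_zero {A S : Type u} [CommRing A] [CommRing S] {κ : Type u} (f : A →+* S) (e : κ → S) :
    comb f e 0 = 0 := Finsupp.sum_zero_index

theorem comb_add {A S : Type u} [CommRing A] [CommRing S] {κ : Type u} (f : A →+* S) (e : κ → S)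
    (v w : κ →₀ A) : comb f e (v + w) = comb f e v + comb f e w :=
  Finsupp.sum_add_index' (fun i => by rw [map_zero, zero_mul]) fun i x y => by rw [map_add, add_mul]

theorem comb_mapRange_mul {A S : Type u} [CommRing A] [CommRing S] {κ : Type u} (f : A →+* S) (e : κ → S)
    (y : A) (v : κ →₀ A) : comb f e (v.mapRange (fun t => y * t) (mul_zero y)) = f y * comb f e v := by
  rw [comb, comb, Finsupp.sum_mapRange_index (fun i => by rw [map_zero, zero_mul]), Finsupp.mul_sum]
  exact Finsupp.sum_congr fun i _ => by rw [map_mul, mul_assoc]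

theorem IsLam.eqOn {L L' : R →+ B₀} (h : IsLam c a q n l L) (h' : IsLam c a q n l L') {z : R}
    (hz : z ∈ (maximalIdeal C ^ n).map a) : L z = L' z := by
  suffices ∀ r, L (r * z) = L' (r * z) by simpa using this 1
  rw [Ideal.map] at hz
  induction hz using Submodule.span_induction with
  | mem z hz =>
    obtain ⟨y, hy, rfl⟩ := hz
    intro r
    rw [mul_comm, h y hy, h' y hy]
  | zero => intro r; rw [mul_zero, map_zero, map_zero]
  | add x y _ _ hx hy => intro r; rw [mul_add, map_add, map_add, hx, hy]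
  | smul s x _ hx => intro r; rw [smul_eq_mul, ← mul_assoc]; exact hx _

theorem IsLam.map_mul {L : R →+ B₀} (h : IsLam c a q n l L) {z : R} (hz : z ∈ (maximalIdeal C ^ n).map a)
    (r : R) : L (r * z) = q r * L z := by
  rw [Ideal.map] at hz
  induction hz using Submodule.span_induction generalizing r with
  | mem z hz =>
    obtain ⟨y, hy, rfl⟩ := hz
    rw [mul_comm, h y hy, show L (a y) = L (a y * 1) by rw [mul_one], h y hy, map_one, mul_one, mul_comm]
  | zero => rw [mul_zero, map_zero, mul_zero]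
  | add x y _ _ hx hy => rw [mul_add, map_add, map_add, hx, hy, mul_add]
  | smul s x _ hx => rw [smul_eq_mul, ← mul_assoc, hx, hx, _root_.map_mul, mul_assoc]

theorem IsLam.eq_zero {L : R →+ B₀} (h : IsLam c a q n l L) (hl : ∀ y ∈ maximalIdeal C ^ (n + 1), l y = 0) {z : R}
    (hz : z ∈ (maximalIdeal C ^ (n + 1)).map a) : L z = 0 := by
  suffices ∀ r, L (r * z) = 0 by simpa using this 1
  rw [Ideal.map] at hz
  induction hz using Submodule.span_induction with
  | mem z hz =>
    obtain ⟨y, hy, rfl⟩ := hz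
    intro r
    rw [mul_comm, h y (Ideal.pow_le_pow_right n.le_succ hy), hl y hy, map_zero, zero_mul]
  | zero => intro r; rw [mul_zero, map_zero]
  | add x y _ _ hx hy => intro r; rw [mul_add, map_add, hx, hy, add_zero]
  | smul s x _ hx => intro r; rw [smul_eq_mul, ← mul_assoc]; exact hx _

section

variable (h : IsDef C c a q) (n)

include h

theorem exists_basisEquiv : ∃ (κ : Type u) (e : κ → R) (E : (κ →₀ C) ≃+ R),
    Function.Bijective (comb c (q ∘ e)) ∧ ∀ v, E v = comb a e v := by
  obtain ⟨κ, e, he⟩ := h.exists_basis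
  exact ⟨κ, e, AddEquiv.ofBijective (AddMonoidHom.mk' (comb a e) (comb_add a e)) (h.bijective_comb he), he,
    fun _ => rfl⟩

theorem isLam_lam {κ : Type u} {e : κ → R} {E : (κ →₀ C) ≃+ R} (hE : ∀ v, E v = comb a e v)
    (hl : ∀ y ∈ maximalIdeal C ^ (n + 1), l y = 0) :
    IsLam c a q n l ((AddMonoidHom.mk' (comb c (q ∘ e)) (comb_add c _)).comp
      ((Finsupp.mapRange.addMonoidHom l.toAddMonoidHom).comp E.symm.toAddMonoidHom)) := fun y hy r => by
  obtain ⟨v, rfl⟩ := E.surjective r
  have h1 : E.symm (a y * E v) = v.mapRange (fun t => y * t) (mul_zero y) := by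
    rw [AddEquiv.symm_apply_eq, hE, hE, comb_mapRange_mul]
  show comb c (q ∘ e) ((E.symm (a y * E v)).mapRange l l.map_zero) = _
  rw [h1, hE, h.q_comb, ← comb_mapRange_mul c]
  congr 1
  ext i
  simp only [Finsupp.mapRange_apply]
  rw [mul_comm y, lin_mul hl _ hy, mul_comm]

theorem exists_isLam (hl : ∀ y ∈ maximalIdeal C ^ (n + 1), l y = 0) : ∃ L, IsLam c a q n l L := by
  obtain ⟨κ, e, E, -, hE⟩ := exists_basisEquiv h
  exact ⟨_, isLam_lam n h hE hl⟩

theorem mem_map_of_forall {r : R} (hr : r ∈ (maximalIdeal C ^ n).map a)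
    (h0 : ∀ (l : C →ₗ[k] k), (∀ y ∈ maximalIdeal C ^ (n + 1), l y = 0) →
      ∀ L, IsLam c a q n l L → L r = 0) : r ∈ (maximalIdeal C ^ (n + 1)).map a := by
  obtain ⟨κ, e, E, he, hE⟩ := exists_basisEquiv h
  obtain ⟨v, rfl⟩ := E.surjective r
  rw [hE]
  refine comb_mem a e v fun i => ?_
  by_contra hi
  obtain ⟨l, hli, hlm⟩ := Submodule.exists_dual_map_eq_bot_of_notMem
    (p := (maximalIdeal C ^ (n + 1)).restrictScalars k) (x := v i) hi inferInstance
  have hl : ∀ y ∈ maximalIdeal C ^ (n + 1), l y = 0 := fun y hy =>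
    (Submodule.mem_bot k).1 (hlm ▸ Submodule.mem_map_of_mem (f := l) (show y ∈ (maximalIdeal C ^ (n + 1)).restrictScalars k from hy))
  have h2 : comb c (q ∘ e) ((E.symm (E v)).mapRange l l.map_zero) = 0 := h0 l hl _ (isLam_lam n h hE hl)
  rw [AddEquiv.symm_apply_apply] at h2
  have h3 := he.1 (h2.trans (comb_zero c _).symm)
  exact hli (by simpa using DFunLike.congr_fun h3 i)

/-- The derivation of an endomorphism congruent to the identity modulo `𝔪ⁿ`. -/
theorem exists_der {L : R →+ B₀} (hL : IsLam c a q n l L) (hl : ∀ y ∈ maximalIdeal C ^ (n + 1), l y = 0)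
    (φ : R →+* R) (ha : ∀ x, φ (a x) = a x) (hq : ∀ r, q (φ r) = q r)
    (hJ : ∀ r, φ r - r ∈ (maximalIdeal C ^ n).map a) :
    ∃ D : B₀ →+ B₀, (∀ r, D (q r) = L (φ r - r)) ∧ (∀ s t, D (s * t) = s * D t + t * D s) ∧ ∀ t, D (c t) = 0 := by
  have hwd : ∀ z, q z = 0 → L (φ z - z) = 0 := fun z hz => by
    refine hL.eq_zero hl ?_
    have hz' : z ∈ (maximalIdeal C).map a := h.ker_le hz
    suffices ∀ r, φ (r * z) - r * z ∈ (maximalIdeal C ^ (n + 1)).map a by simpa using this 1
    clear hz
    rw [Ideal.map] at hz'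
    induction hz' using Submodule.span_induction with
    | mem z hz =>
      obtain ⟨y, hy, rfl⟩ := hz
      intro r
      rw [_root_.map_mul, ha, ← sub_mul, mul_comm, pow_succ', Ideal.map_mul]
      exact Ideal.mul_mem_mul (Ideal.mem_map_of_mem a hy) (hJ r)
    | zero => intro r; rw [mul_zero, map_zero, sub_zero]; exact zero_mem _
    | add x y _ _ hx hy =>
      intro r
      rw [mul_add, map_add, add_sub_add_comm]
      exact add_mem (hx r) (hy r)
    | smul s x _ hx => intro r; rw [smul_eq_mul, ← mul_assoc]; exact hx _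
  let f : R →+ B₀ := L.comp (φ.toAddMonoidHom - AddMonoidHom.id R)
  have hf : ∀ r, f r = L (φ r - r) := fun r => rfl
  have hD : ∀ r r', q r = q r' → f r = f r' := fun r r' e => by
    rw [← sub_eq_zero, ← map_sub]
    exact (hf _).trans (hwd _ (by rw [map_sub, e, sub_self]))
  let D : B₀ →+ B₀ := AddMonoidHom.mk' (fun b => f (Function.surjInv h.surjective b)) fun b b' => by
    rw [← map_add]
    exact hD _ _ (by simp only [map_add, Function.surjInv_eq h.surjective])
  have hDq : ∀ r, D (q r) = L (φ r - r) := fun r => hD _ _ (Function.surjInv_eq h.surjective _)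
  refine ⟨D, hDq, fun s t => ?_, fun t => ?_⟩
  · obtain ⟨r, rfl⟩ := h.surjective s
    obtain ⟨r', rfl⟩ := h.surjective t
    rw [← _root_.map_mul q, hDq, hDq, hDq,
      show φ (r * r') - r * r' = φ r * (φ r' - r') + r' * (φ r - r) by rw [_root_.map_mul]; ring,
      map_add, hL.map_mul (hJ r'), hL.map_mul (hJ r), hq]
  · have e : c t = q (a (algebraMap k C t)) := by rw [h.comm, res_algebraMap]
    rw [e, hDq, ha, sub_self, map_zero]

end

end Groth.Agent.H9DefAut
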