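import Groth.Agent.H9DefAut.Alg
import Groth.Agent.H9DefAut.Der
import Groth.Agent.DefGlueLib.Sections
import Groth.Agent.DefGlueLib.Schless
import Groth.Agent.OmegaUniv.Universal

/-! A vector field gives an automorphism of the trivial first-order deformation. -/

set_option autoImplicit false
set_option backward.isDefEq.respectTransparency false
set_option backward.isDefEq.respectTransparency.types false

universe u

open CategoryTheory CategoryTheory.Limits AlgebraicGeometry TopologicalSpace Opposite ArtFun TrivSqZeroExt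

noncomputable section

namespace Groth.Agent.H9DefAut

open Scheme (AffineZariskiSite)
open Groth.Agent.DefGlueLib

variable {k : Type u} [Field k] {X : Scheme.{u}} {x : X ⟶ Spec (CommRingCat.of k)}

theorem eps_mul {C : Art k k} {R B₀ : Type u} [CommRing R] [CommRing B₀] {c : k →+* B₀} {a : C →+* R}
    {q : R →+* B₀} (h : IsDef C c a q) {y : C} (hy : ∀ z ∈ IsLocalRing.maximalIdeal C, y * z = 0) {s t : R}
    (e : q s = q t) : a y * s = a y * t := by
  rw [← sub_eq_zero, ← mul_sub, ← Ideal.mem_bot, ← Ideal.map_bot (f := a),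
    show (⊥ : Ideal C) = Ideal.span {y} * IsLocalRing.maximalIdeal C from
      (eq_bot_iff.2 (Ideal.mul_le.2 fun a ha b hb => by
        obtain ⟨d, rfl⟩ := Ideal.mem_span_singleton'.1 ha
        rw [Submodule.mem_bot, mul_assoc, hy b hb, mul_zero])).symm,
    Ideal.map_mul]
  exact Ideal.mul_mem_mul (Ideal.mem_map_of_mem a (Ideal.mem_span_singleton_self y))
    (h.ker_le (by rw [RingHom.mem_ker, map_sub, e, sub_self]))

variable (x) in
/-- `ε`. -/
def eps : Art.dual k k := (inr 1 : DualNumber k)

theorem mem_maximalIdeal_dual (z : Art.dual k k) :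
    z ∈ IsLocalRing.maximalIdeal (Art.dual k k) ↔ fst (show DualNumber k from z) = 0 :=
  Art.mem_maximalIdeal_iff _ z

theorem mul_eq_zero_dual {y z : Art.dual k k} (hy : y ∈ IsLocalRing.maximalIdeal (Art.dual k k))
    (hz : z ∈ IsLocalRing.maximalIdeal (Art.dual k k)) : y * z = 0 := by
  rw [mem_maximalIdeal_dual] at hy hz
  refine TrivSqZeroExt.ext ?_ ?_
  · exact (fst_mul (show DualNumber k from y) z).trans (by rw [hy, zero_mul]; rfl)
  · exact (snd_mul (show DualNumber k from y) z).trans (by rw [hy, hz, zero_smul, MulOpposite.op_zero, zero_smul, add_zero]; rfl)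

theorem eps_mem : (eps : Art.dual k k) ∈ IsLocalRing.maximalIdeal (Art.dual k k) :=
  (mem_maximalIdeal_dual _).2 (fst_inr k (1 : k))

variable (P : PDef x (Art.dual k k)) (E : DerFam x)

/-- `r ↦ r + ε D(r)`. -/
def vfMap (U : AffineZariskiSite X) : P.R.obj (op U) →+* P.R.obj (op U) :=
  let a := P.a (op U)
  let q := (P.q.app (op U)).hom
  let σ := Function.surjInv (P.isDef (op U)).surjective
  have hσ : ∀ b, q (σ b) = b := Function.surjInv_eq _
  have hm : ∀ {s t}, q s = q t → a eps * s = a eps * t := fun e =>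
    eps_mul (P.isDef (op U)) (fun _ hz => mul_eq_zero_dual eps_mem hz) e
  { toFun := fun r => r + a eps * σ (E.D U (q r))
    map_one' := by
      rw [add_eq_left, hm (t := 0) (by
        rw [hσ, map_one, map_zero]
        have := E.mul U 1 1
        rw [one_mul, one_mul] at this
        exact left_eq_add.1 this), mul_zero]
    map_mul' := fun r r' => by
      have h : a eps * σ (E.D U (q (r * r'))) =
          a eps * (r * σ (E.D U (q r')) + r' * σ (E.D U (q r))) :=
        hm (by rw [hσ, map_add, map_mul q, map_mul q, map_mul q, hσ, hσ, E.mul])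
      have h0 : a eps * a eps = 0 := by rw [← map_mul, mul_eq_zero_dual eps_mem eps_mem, map_zero]
      rw [h]
      linear_combination (-(σ (E.D U (q r)) * σ (E.D U (q r')))) * h0
    map_zero' := by
      rw [zero_add, hm (t := 0) (by rw [hσ, map_zero, map_zero]), mul_zero]
    map_add' := fun r r' => by
      have h : a eps * σ (E.D U (q (r + r'))) = a eps * (σ (E.D U (q r)) + σ (E.D U (q r'))) :=
        hm (by rw [hσ, map_add q, map_add, map_add, hσ, hσ])
      rw [h]; ring }

theorem vfMap_apply (U : AffineZariskiSite X) (r : P.R.obj (op U)) {b : P.R.obj (op U)}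
    (hb : (P.q.app (op U)).hom b = E.D U ((P.q.app (op U)).hom r)) :
    vfMap P E U r = r + P.a (op U) eps * b :=
  congrArg (r + ·) (eps_mul (P.isDef (op U)) (fun _ hz => mul_eq_zero_dual eps_mem hz)
    ((Function.surjInv_eq _ _).trans hb.symm))

/-- The endomorphism of the family. -/
def vfHom : PHom (𝟙 (Art.dual k k)) P P where
  app :=
    { app := fun U => CommRingCat.ofHom (vfMap P E U.unop)
      naturality := fun U V f => by
        induction U using Opposite.rec with | op U => ?_
        induction V using Opposite.rec with | op V => ?_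
        refine CommRingCat.hom_ext (RingHom.ext fun r => ?_)
        obtain ⟨b, hb⟩ := (P.isDef (op U)).surjective (E.D U ((P.q.app (op U)).hom r))
        change vfMap P E V (P.R.map f r) = P.R.map f (vfMap P E U r)
        rw [vfMap_apply P E U r hb,
          vfMap_apply P E V (P.R.map f r) (b := P.R.map f b) ?_, map_add, map_mul, P.a_map]
        exact ((P.q_map f b).trans (congrArg (X.presheaf.map _) hb)).trans
          ((congrArg (E.D V) (P.q_map f r)).trans (E.map f.unop.le _)).symm }
  comm U c := by
    induction U using Opposite.rec with | op U => ?_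
    change vfMap P E U (P.a (op U) c) = _
    rw [vfMap_apply P E U _ (b := 0) ((map_zero _).trans ((congrArg (E.D U) ((P.isDef (op U)).comm c)).trans
      (E.str U _)).symm), mul_zero, add_zero]
    rfl
  q_app := by
    refine NatTrans.ext (funext fun U => CommRingCat.hom_ext (RingHom.ext fun r => ?_))
    induction U using Opposite.rec with | op U => ?_
    change (P.q.app (op U)).hom (vfMap P E U r) = (P.q.app (op U)).hom r
    obtain ⟨b, hb⟩ := (P.isDef (op U)).surjective (E.D U ((P.q.app (op U)).hom r))
    have h0 : (P.q.app (op U)).hom (P.a (op U) eps) = 0 := ((P.isDef (op U)).comm _).trans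
      ((congrArg _ ((Art.mem_maximalIdeal_iff _ _).1 eps_mem)).trans (map_zero _))
    rw [vfMap_apply P E U r hb, map_add, map_mul, h0, zero_mul, add_zero]

/-- No automorphisms of the trivial deformation: no vector fields. -/
theorem derFam_eq_zero (h : ∀ (A : Art k k) (ξ : DefSch X x A) (e : ξ.Iso ξ), e.iso.hom = 𝟙 ξ.total)
    (E : DerFam x) (U : AffineZariskiSite X) (s : Γ(X, U.toOpens)) : E.D U s = 0 := by
  let ξ := DefSch.trivial X x (flat_str x) (Art.dual k k)
  let P := ofSch ξ
  let Φ := vfHom P E
  let c := counit ξ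
  have hglue : Φ.glue.hom = 𝟙 _ := by
    have h2 : c.iso.inv ≫ Φ.glue.hom ≫ c.iso.hom = 𝟙 _ :=
      h _ ξ (c.symm.trans ((Ov.toIso Φ.glue).trans c))
    have h3 := congrArg (fun f => c.iso.hom ≫ f ≫ c.iso.inv) h2
    simpa using h3
  have hU : P.diagram.map (𝟙 U) = Spec.map (Φ.app.app (op U)) := by
    rw [← cancel_mono (colimit.ι P.diagram U), ← PHom.ι_glue, hglue, colimit.w]
    exact (Category.comp_id _).symm
  rw [CategoryTheory.Functor.map_id] at hU
  have hid : Φ.app.app (op U) = 𝟙 _ := Spec.map_injective (hU.symm.trans (Spec.map_id _).symm)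
  obtain ⟨r, rfl⟩ := (P.isDef (op U)).surjective s
  obtain ⟨b, hb⟩ := (P.isDef (op U)).surjective (E.D U ((P.q.app (op U)).hom r))
  have h0 : P.a (op U) eps * b = 0 := by
    have h4 : vfMap P E U r = r := ConcreteCategory.congr_hom hid r
    rwa [vfMap_apply P E U r hb, add_eq_left] at h4
  let l : Art.dual k k →ₗ[k] k := TrivSqZeroExt.sndHom k k
  obtain ⟨L, hL⟩ := exists_isLam 1 (P.isDef (op U)) (l := l) fun y hy => by
    rw [pow_two] at hy
    have : y = 0 := (Submodule.mem_bot _).1 (Ideal.mul_le.2 (fun a ha b hb => by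
      rw [Submodule.mem_bot]; exact mul_eq_zero_dual ha hb) hy)
    rw [this, map_zero]
  have h1 := hL eps (by rw [pow_one]; exact eps_mem) b
  rw [h0, map_zero, hb, show l eps = 1 from snd_inr k (1 : k), map_one, one_mul] at h1
  exact h1.symm

/-- The family of a derivation of the structure sheaf. -/
def ofDer (D : OmegaSh.Der x (Coh.structureModule X)) : DerFam x where
  D U := (OmegaSh.fnSect X U.toOpens).comp (D.app U.toOpens)
  map h s := D.d_map (homOfLE (AffineZariskiSite.toOpens_mono h)).op s
  mul U s t := D.d_mul (X := op U.toOpens) s t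
  str U c := by
    have h1 := D.d_map (homOfLE (le_top : U.toOpens ≤ x ⁻¹ᵁ ⊤)).op
      (x.app ⊤ ((Scheme.ΓSpecIso (CommRingCat.of k)).inv c))
    erw [D.d_app (X := op ⊤), map_zero] at h1
    exact h1

theorem subsingleton_hom [QuasiSeparated x]
    (h : ∀ (A : Art k k) (ξ : DefSch X x A) (e : ξ.Iso ξ), e.iso.hom = 𝟙 ξ.total) :
    Subsingleton (Omega.sheaf x ⟶ Coh.structureModule X) := by
  have h0 : ∀ (D : OmegaSh.Der x (Coh.structureModule X)) (W : X.Opens) (s : Γ(X, W)),
      OmegaSh.fnSect X W (D.app W s) = 0 := fun D W s => eq_of_affine fun U hle => by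
    rw [map_zero, ← derFam_eq_zero h (ofDer D) U (X.presheaf.map (homOfLE hle).op s)]
    exact (D.d_map (homOfLE hle).op s).symm
  refine ⟨fun θ₁ θ₂ => ?_⟩
  obtain ⟨α, -, hu⟩ := OmegaUniv.isUniversal_dOmega x _ ((OmegaSh.dOmega x).postcomp θ₁.val)
  rw [hu θ₁ rfl, hu θ₂ ?_]
  refine PresheafOfModules.Derivation.ext ?_
  funext W
  exact AddMonoidHom.ext fun s => (h0 ((OmegaSh.dOmega x).postcomp θ₂.val) W.unop s).trans
    (h0 ((OmegaSh.dOmega x).postcomp θ₁.val) W.unop s).symm

end Groth.Agent.H9DefAut
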