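import Groth.Agent.H9DefAut.Backward

/-! Automorphisms of a first-order deformation and vector fields. -/

set_option autoImplicit false
set_option backward.isDefEq.respectTransparency false
set_option backward.isDefEq.respectTransparency.types false

universe u

open CategoryTheory CategoryTheory.Limits AlgebraicGeometry TopologicalSpace Opposite ArtFun TrivSqZeroExt

noncomputable section

namespace Groth.Agent.H9DefAut

open Scheme (AffineZariskiSite)
open Groth.Agent.DefGlueLib

variable {k : Type u} [Field k] {X : Scheme.{u}} {x : X ⟶ Spec (CommRingCat.of k)}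

theorem DerFam.ext' {E E' : DerFam x} (h : ∀ U s, E.D U s = E'.D U s) : E = E' := by
  cases E; cases E'
  congr
  exact funext fun U => AddMonoidHom.ext (h U)

/-- The sum. -/
def DerFam.add (E E' : DerFam x) : DerFam x where
  D U := E.D U + E'.D U
  map h s := by simp only [AddMonoidHom.add_apply, E.map h, E'.map h, map_add]
  mul U s t := by simp only [AddMonoidHom.add_apply, E.mul, E'.mul]; ring
  str U c := by simp only [AddMonoidHom.add_apply, E.str, E'.str, add_zero]

variable (P : PDef x (Art.dual k k))

theorem eps_cancel (U : AffineZariskiSite X) {z z' : P.R.obj (op U)}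
    (e : P.a (op U) eps * z = P.a (op U) eps * z') :
    (P.q.app (op U)).hom z = (P.q.app (op U)).hom z' := by
  let l : Art.dual k k →ₗ[k] k := TrivSqZeroExt.sndHom k k
  obtain ⟨L, hL⟩ := exists_isLam 1 (P.isDef (op U)) (l := l) fun y hy => by
    rw [pow_two] at hy
    have : y = 0 := (Submodule.mem_bot _).1 (Ideal.mul_le.2 (fun a ha b hb => by
      rw [Submodule.mem_bot]; exact mul_eq_zero_dual ha hb) hy)
    rw [this, map_zero]
  have h1 := hL eps (by rw [pow_one]; exact eps_mem) z
  have h2 := hL eps (by rw [pow_one]; exact eps_mem) z'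
  rw [show l eps = 1 from snd_inr k (1 : k), map_one, one_mul] at h1 h2
  exact h1.symm.trans ((congrArg L e).trans h2)

theorem maximalIdeal_dual :
    IsLocalRing.maximalIdeal (Art.dual k k) = Ideal.span {(eps : Art.dual k k)} := by
  refine le_antisymm (fun z hz => Ideal.mem_span_singleton'.2
    ⟨(inl (snd (show DualNumber k from z)) : DualNumber k), ?_⟩)
    ((Ideal.span_singleton_le_iff_mem _).2 eps_mem)
  have h0 := (mem_maximalIdeal_dual z).1 hz
  refine TrivSqZeroExt.ext ?_ ?_
  · exact (fst_mul (inl (snd (show DualNumber k from z)) : DualNumber k) (inr 1)).trans (by simp [h0])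
  · exact (snd_mul (inl (snd (show DualNumber k from z)) : DualNumber k) (inr 1)).trans (by simp)

theorem vfMap_injective {E E' : DerFam x} (h : ∀ U r, vfMap P E U r = vfMap P E' U r) : E = E' :=
  DerFam.ext' fun U s => by
    obtain ⟨r, rfl⟩ := (P.isDef (op U)).surjective s
    obtain ⟨b, hb⟩ := (P.isDef (op U)).surjective (E.D U ((P.q.app (op U)).hom r))
    obtain ⟨b', hb'⟩ := (P.isDef (op U)).surjective (E'.D U ((P.q.app (op U)).hom r))
    have h1 := h U r
    rw [vfMap_apply P E U r hb, vfMap_apply P E' U r hb', add_right_inj] at h1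
    exact hb.symm.trans ((eps_cancel P U h1).trans hb')

theorem vfMap_comp (E E' : DerFam x) (U : AffineZariskiSite X) (r : P.R.obj (op U)) :
    vfMap P (E.add E') U r = vfMap P E' U (vfMap P E U r) := by
  obtain ⟨b, hb⟩ := (P.isDef (op U)).surjective (E.D U ((P.q.app (op U)).hom r))
  obtain ⟨b', hb'⟩ := (P.isDef (op U)).surjective (E'.D U ((P.q.app (op U)).hom r))
  have he : (P.q.app (op U)).hom (r + P.a (op U) eps * b) = (P.q.app (op U)).hom r := by
    have h0 : (P.q.app (op U)).hom (P.a (op U) eps) = 0 := ((P.isDef (op U)).comm _).trans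
      ((congrArg _ ((Art.mem_maximalIdeal_iff _ _).1 eps_mem)).trans (map_zero _))
    rw [map_add, map_mul, h0, zero_mul, add_zero]
  rw [vfMap_apply P (E.add E') U r (b := b + b') ((map_add _ b b').trans (congrArg₂ (· + ·) hb hb')),
    vfMap_apply P E U r hb,
    vfMap_apply P E' U _ (b := b') (hb'.trans (congrArg (E'.D U) he.symm))]
  ring

theorem exists_fam (Φ : PHom (𝟙 (Art.dual k k)) P P) :
    ∃ E : DerFam x, ∀ U r, vfMap P E U r = (Φ.app.app (op U)).hom r := by
  have hb : ∀ U r, ∃ b : P.R.obj (op U),
      (Φ.app.app (op U)).hom r = r + P.a (op U) eps * b := fun U r => by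
    have hr : (P.q.app (op U)).hom ((Φ.app.app (op U)).hom r - r) = 0 := by
      rw [map_sub, show (P.q.app (op U)).hom ((Φ.app.app (op U)).hom r) = (P.q.app (op U)).hom r from
        congr($(Φ.q_app).app (op U) r), sub_self]
    have h := (P.isDef (op U)).ker_le hr
    rw [maximalIdeal_dual, Ideal.map_span, Set.image_singleton, Ideal.mem_span_singleton'] at h
    obtain ⟨b, hb⟩ := h
    exact ⟨b, by rw [mul_comm, hb]; ring⟩
  choose b hb using hb
  have hwd : ∀ U r r', (P.q.app (op U)).hom r = (P.q.app (op U)).hom r' →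
      (P.q.app (op U)).hom (b U r) = (P.q.app (op U)).hom (b U r') := fun U r r' e => by
    refine eps_cancel P U ?_
    have hd : ∀ z, (P.q.app (op U)).hom z = 0 → (Φ.app.app (op U)).hom z = z := fun z hz => by
      have h := (P.isDef (op U)).ker_le hz
      rw [maximalIdeal_dual, Ideal.map_span, Set.image_singleton, Ideal.mem_span_singleton'] at h
      obtain ⟨w, rfl⟩ := h
      rw [map_mul, show (Φ.app.app (op U)).hom (P.a (op U) eps) = P.a (op U) eps from Φ.comm (op U) eps,
        hb U w, add_mul, mul_comm (P.a (op U) eps) (b U w), mul_assoc, ← map_mul (P.a (op U)),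
        mul_eq_zero_dual eps_mem eps_mem, map_zero, mul_zero, add_zero]
    have h1 := hd (r - r') (by rw [map_sub, e, sub_self])
    rw [map_sub, hb U r, hb U r'] at h1
    linear_combination h1
  let σ := fun U => Function.surjInv (P.isDef (op U)).surjective
  have hσ : ∀ U s, (P.q.app (op U)).hom (σ U s) = s := fun U => Function.surjInv_eq _
  let Dv : ∀ U : AffineZariskiSite X, Γ(X, U.toOpens) → Γ(X, U.toOpens) :=
    fun U s => (P.q.app (op U)).hom (b U (σ U s))
  have hD : ∀ U r, Dv U ((P.q.app (op U)).hom r) = (P.q.app (op U)).hom (b U r) := fun U r =>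
    hwd U _ _ (hσ U _)
  have hq : ∀ U r, (P.q.app (op U)).hom ((Φ.app.app (op U)).hom r) = (P.q.app (op U)).hom r := fun U r =>
    congr($(Φ.q_app).app (op U) r)
  let E : DerFam x :=
    { D := fun U => AddMonoidHom.mk' (Dv U) fun s t => by
        obtain ⟨r, rfl⟩ := (P.isDef (op U)).surjective s
        obtain ⟨r', rfl⟩ := (P.isDef (op U)).surjective t
        refine (congrArg (Dv U) (map_add _ r r').symm).trans ((hD U _).trans ?_)
        refine ((eps_cancel P U ?_).trans (map_add _ (b U r) (b U r'))).trans
          (congrArg₂ (· + ·) (hD U r) (hD U r')).symm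
        have h1 := hb U (r + r')
        rw [map_add, hb U r, hb U r'] at h1
        linear_combination -h1
      map := fun {U V} h s => by
        obtain ⟨r, rfl⟩ := (P.isDef (op U)).surjective s
        let i : op U ⟶ op V := (homOfLE h).op
        refine (congrArg (Dv V) (P.q_map i r).symm).trans ((hD V _).trans ?_)
        refine ((eps_cancel P V (z' := P.R.map i (b U r)) ?_).trans (P.q_map i _)).trans
          (congrArg (X.presheaf.map _) (hD U r)).symm
        have h1 := hb V (P.R.map i r)
        rw [show (Φ.app.app (op V)).hom (P.R.map i r) = P.R.map i ((Φ.app.app (op U)).hom r) from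
            ConcreteCategory.congr_hom (Φ.app.naturality i) r, hb U r, map_add, map_mul, P.a_map] at h1
        linear_combination -h1
      mul := fun U s t => by
        obtain ⟨r, rfl⟩ := (P.isDef (op U)).surjective s
        obtain ⟨r', rfl⟩ := (P.isDef (op U)).surjective t
        refine (congrArg (Dv U) (map_mul _ r r').symm).trans ((hD U _).trans ?_)
        refine Eq.trans ?_ (congrArg₂ (fun u v => _ * u + _ * v) (hD U r') (hD U r)).symm
        refine (eps_cancel P U (z' := r * b U r' + r' * b U r) ?_).trans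
          ((map_add _ _ _).trans (congrArg₂ (· + ·) (map_mul _ _ _) (map_mul _ _ _)))
        have h1 := hb U (r * r')
        rw [map_mul, hb U r, hb U r'] at h1
        have h0 : P.a (op U) eps * P.a (op U) eps = 0 := by
          rw [← map_mul, mul_eq_zero_dual eps_mem eps_mem, map_zero]
        linear_combination -h1 + (b U r * b U r') * h0
      str := fun U c => by
        have e : (P.q.app (op U)).hom (P.a (op U) (algebraMap k (Art.dual k k) c)) = str x U c :=
          ((P.isDef (op U)).comm _).trans (congrArg (str x U) (res_algebraMap c))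
        refine (congrArg (Dv U) e.symm).trans ((hD U _).trans ?_)
        refine (eps_cancel P U (z' := 0) ?_).trans (map_zero _)
        have h1 := hb U (P.a (op U) (algebraMap k (Art.dual k k) c))
        rw [show ∀ t, (Φ.app.app (op U)).hom (P.a (op U) t) = P.a (op U) t from Φ.comm (op U)] at h1
        linear_combination -h1 }
  exact ⟨E, fun U r => (vfMap_apply P E U r (b := b U r) (hD U r).symm).trans (hb U r).symm⟩

variable [QuasiSeparated x]

/-- The family of a linear form on the differentials. -/
def homFam (θ : Omega.sheaf x ⟶ Coh.structureModule X) : DerFam x :=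
  ofDer ((OmegaSh.dOmega x).postcomp θ.val)

theorem homFam_add (θ θ' : Omega.sheaf x ⟶ Coh.structureModule X) :
    homFam (θ + θ') = (homFam θ).add (homFam θ') :=
  DerFam.ext' fun _ _ => rfl

theorem homFam_bijective : Function.Bijective (homFam (x := x)) := by
  refine ⟨fun θ θ' e => ?_, fun E => ?_⟩
  · obtain ⟨α, -, hu⟩ := OmegaUniv.isUniversal_dOmega x _ ((OmegaSh.dOmega x).postcomp θ.val)
    rw [hu θ rfl, hu θ' ?_]
    refine PresheafOfModules.Derivation.ext ?_
    funext W
    refine AddMonoidHom.ext fun s => eq_of_affine (W := W.unop) fun U hle => ?_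
    refine (((OmegaSh.dOmega x).postcomp θ'.val).d_map (homOfLE hle).op s).symm.trans
      (Eq.trans ?_ (((OmegaSh.dOmega x).postcomp θ.val).d_map (homOfLE hle).op s))
    exact (congrArg (fun E : DerFam x => E.D U (X.presheaf.map (homOfLE hle).op s)) e).symm
  · obtain ⟨α, hα, -⟩ := OmegaUniv.isUniversal_dOmega x _ (E.toDer x)
    exact ⟨α, DerFam.ext' fun U s =>
      (congrArg (fun D => OmegaSh.fnSect X U.toOpens (OmegaSh.Der.app D U.toOpens s)) hα).trans (E.toDer_app U s)⟩

/-- The automorphism of a vector field. -/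
def autOf (ξ : DefSch X x (Art.dual k k)) (θ : Omega.sheaf x ⟶ Coh.structureModule X) : ξ.Iso ξ :=
  (counit ξ).symm.trans ((Ov.toIso (vfHom (ofSch ξ) (homFam θ)).glue).trans (counit ξ))

theorem autOf_hom (ξ : DefSch X x (Art.dual k k)) (θ : Omega.sheaf x ⟶ Coh.structureModule X) :
    (autOf ξ θ).iso.hom =
      (counit ξ).iso.inv ≫ (vfHom (ofSch ξ) (homFam θ)).glue.hom ≫ (counit ξ).iso.hom :=
  rfl

theorem autOf_add (ξ : DefSch X x (Art.dual k k)) (θ θ' : Omega.sheaf x ⟶ Coh.structureModule X) :
    (autOf ξ (θ + θ')).iso.hom = (autOf ξ θ).iso.hom ≫ (autOf ξ θ').iso.hom := by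
  rw [autOf_hom, autOf_hom, autOf_hom, add_comm θ θ', homFam_add]
  simp only [Category.assoc, Iso.hom_inv_id_assoc]
  rw [← Category.assoc (vfHom (ofSch ξ) (homFam θ)).glue.hom]
  congr 2
  refine colimit.hom_ext fun U => ?_
  rw [PHom.ι_glue, ← Category.assoc, PHom.ι_glue, Category.assoc, PHom.ι_glue, ← Category.assoc,
    ← Spec.map_comp]
  congr 2
  exact CommRingCat.hom_ext (RingHom.ext fun r => vfMap_comp (ofSch ξ) (homFam θ') (homFam θ) U r)

theorem autOf_injective (ξ : DefSch X x (Art.dual k k)) {θ θ' : Omega.sheaf x ⟶ Coh.structureModule X}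
    (e : (autOf ξ θ).iso.hom = (autOf ξ θ').iso.hom) : θ = θ' := by
  rw [autOf_hom, autOf_hom, cancel_epi, cancel_mono] at e
  refine homFam_bijective.1 (vfMap_injective (ofSch ξ) fun U r => ?_)
  have h := congrArg (colimit.ι (ofSch ξ).diagram U ≫ ·) e
  simp only [PHom.ι_glue, cancel_mono] at h
  exact ConcreteCategory.congr_hom (Spec.map_injective h) r

theorem autOf_surjective (ξ : DefSch X x (Art.dual k k)) (e : ξ.Iso ξ) :
    ∃ θ : Omega.sheaf x ⟶ Coh.structureModule X, (autOf ξ θ).iso.hom = e.iso.hom := by
  obtain ⟨E, hE⟩ := exists_fam (ofSch ξ) (Ov.ofIso e).sec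
  obtain ⟨θ, rfl⟩ := homFam_bijective.2 E
  refine ⟨θ, ?_⟩
  rw [autOf_hom, Iso.inv_comp_eq, show (vfHom (ofSch ξ) (homFam θ)).glue.hom = (Ov.ofIso e).sec.glue.hom from
    colimit.hom_ext fun U => by
      rw [PHom.ι_glue, PHom.ι_glue]
      exact congrArg (fun f => Spec.map f ≫ _) (CommRingCat.hom_ext (RingHom.ext (hE U)))]
  exact counit_naturality (Ov.ofIso e)

end Groth.Agent.H9DefAut
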